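/-
Vectors in a non-degenerate symmetric space over the field with three elements: isotropic vectors
with prescribed pairings and sections determining their vector up to sign.
-/
import Cfsg.Agent.H71.Fischer.Chart

set_option autoImplicit false

namespace H68.Refl

open H71.Fischer

theorem trit (a : ZMod 3) : a = 0 ∨ a = 1 ∨ a = -1 := by revert a; decide

theorem sq_one {a : ZMod 3} (h : a ≠ 0) : a * a = 1 := by revert a; decide

theorem ne_neg_one_one : (1 : ZMod 3) ≠ -1 := by decide

theorem one_ne : (1 : ZMod 3) ≠ 0 := by decide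

theorem three : (3 : ZMod 3) = 0 := by decide

theorem eq_neg_of_ne {a b : ZMod 3} (ha : a ≠ 0) (hb : b ≠ 0) (h : a ≠ b) : b = -a := by
  revert a b; decide

variable {n : ℕ} {f : Form3 n}

theorem addl (f : Form3 n) (x y z : V3 n) : f.B (x + y) z = f.B x z + f.B y z := by
  rw [map_add, LinearMap.add_apply]

theorem addr (f : Form3 n) (x y z : V3 n) : f.B x (y + z) = f.B x y + f.B x z := map_add _ _ _

theorem subl (f : Form3 n) (x y z : V3 n) : f.B (x - y) z = f.B x z - f.B y z := by
  rw [map_sub, LinearMap.sub_apply]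

theorem subr (f : Form3 n) (x y z : V3 n) : f.B x (y - z) = f.B x y - f.B x z := map_sub _ _ _

theorem negl (f : Form3 n) (x z : V3 n) : f.B (-x) z = -f.B x z := by
  rw [map_neg, LinearMap.neg_apply]

theorem negr (f : Form3 n) (x z : V3 n) : f.B x (-z) = -f.B x z := map_neg _ _

theorem smull (f : Form3 n) (c : ZMod 3) (x z : V3 n) : f.B (c • x) z = c * f.B x z := by
  rw [map_smul, LinearMap.smul_apply, smul_eq_mul]

theorem smulr (f : Form3 n) (c : ZMod 3) (x z : V3 n) : f.B x (c • z) = c * f.B x z := by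
  rw [map_smul, smul_eq_mul]

theorem zerol (f : Form3 n) (z : V3 n) : f.B 0 z = 0 := by rw [map_zero, LinearMap.zero_apply]

theorem zeror (f : Form3 n) (z : V3 n) : f.B z 0 = 0 := map_zero _

theorem pt_neg {v : V3 n} (hv : f.Pt v) : f.Pt (-v) := by
  rw [Form3.Pt, negl, negr, neg_neg]; exact hv

theorem pt_ne_zero {v : V3 n} (hv : f.Pt v) : v ≠ 0 := by
  rintro rfl
  rw [Form3.Pt, zerol] at hv
  exact one_ne hv.symm

/-- The reflection is self-adjoint. -/
theorem ref_adj (f : Form3 n) (v x y : V3 n) : f.B (f.ref v x) y = f.B x (f.ref v y) := by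
  simp only [Form3.ref, addl, addr, smull, smulr]
  rw [f.symm y v, f.symm v y]
  ring

theorem ref_norm {v : V3 n} (hv : f.Pt v) (x : V3 n) :
    f.B (f.ref v x) (f.ref v x) = f.B x x := by
  simp only [Form3.ref, addl, addr, smull, smulr, f.symm v x, show f.B v v = 1 from hv]
  linear_combination (f.B x v * f.B x v) * three

theorem ref_fix {v x : V3 n} (h : f.B x v = 0) : f.ref v x = x := by
  simp [Form3.ref, h]

theorem ref_iso_ne {v r : V3 n} (hr : r ≠ 0) (hq : f.B r r = 0) : f.ref v r ≠ 0 := by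
  intro h
  have h1 : f.B r (f.ref v r) = 0 := by rw [h, zeror]
  simp only [Form3.ref, addr, smulr, hq, zero_add, mul_self_eq_zero] at h1
  rw [ref_fix h1] at h
  exact hr h

/-- A vector pairing to one with `r` and to zero with `r'`. -/
theorem dual (f : Form3 n) {r r' : V3 n} (hr : ∀ c : ZMod 3, r ≠ c • r') :
    ∃ e, f.B r e = 1 ∧ f.B r' e = 0 := by
  suffices ∃ e, f.B r e ≠ 0 ∧ f.B r' e = 0 by
    obtain ⟨e, h1, h2⟩ := this
    exact ⟨f.B r e • e, by rw [smulr, sq_one h1], by rw [smulr, h2, mul_zero]⟩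
  by_contra hno
  push Not at hno
  have hker : ∀ x, f.B r' x = 0 → f.B r x = 0 := fun x hx => by
    by_contra h
    exact hno x h hx
  by_cases h0 : r' = 0
  · refine hr 0 ?_
    rw [zero_smul]
    exact f.nondeg r fun y => hker y (by rw [h0, zerol])
  obtain ⟨y, hy⟩ : ∃ y, f.B r' y ≠ 0 := by
    by_contra h
    push Not at h
    exact h0 (f.nondeg r' h)
  set a := f.B r' y • y with ha
  have ha1 : f.B r' a = 1 := by rw [ha, smulr, sq_one hy]
  refine hr (f.B r a) (sub_eq_zero.1 (f.nondeg _ fun x => ?_))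
  have hx := hker (x - f.B r' x • a) (by rw [subr, smulr, ha1, mul_one, sub_self])
  rw [subr, smulr] at hx
  rw [subl, smull]
  linear_combination hx

theorem indep {r r' : V3 n} (hr : r ≠ 0) (hne : r' ≠ r) (hne' : r' ≠ -r) (c : ZMod 3) :
    r ≠ c • r' := by
  rintro h
  rcases trit c with rfl | rfl | rfl
  · exact hr (by rw [h, zero_smul])
  · exact hne (by rw [h, one_smul])
  · exact hne' (by rw [h, neg_one_smul, neg_neg])

/-- An isotropic vector with prescribed pairings with two orthogonal isotropic vectors. -/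
theorem iso_pair {r r' : V3 n} (hr : r ≠ 0) (hq : f.B r r = 0) (hr' : r' ≠ 0)
    (hne : r' ≠ r) (hne' : r' ≠ -r) (h0 : f.B r r' = 0) {a : ZMod 3} (ha : a ≠ 0) (b : ZMod 3) :
    ∃ w, f.B w w = 0 ∧ f.B r w = a ∧ f.B r' w = b := by
  obtain ⟨e1, h1, h1'⟩ := dual f (indep hr hne hne')
  obtain ⟨e2, h2, h2'⟩ := dual f (indep hr' hne.symm (fun h => hne' (by rw [h, neg_neg])))
  have hx : f.B r (a • e1 + b • e2) = a := by rw [addr, smulr, smulr, h1, h2']; ring
  have hx' : f.B r' (a • e1 + b • e2) = b := by rw [addr, smulr, smulr, h1', h2]; ring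
  generalize a • e1 + b • e2 = x at hx hx'
  refine ⟨x + (a * f.B x x) • r, ?_, ?_, ?_⟩
  · simp only [addl, addr, smull, smulr, hq, f.symm x r, hx]
    linear_combination 2 * f.B x x * sq_one ha + f.B x x * three
  · rw [addr, smulr, hq, mul_zero, add_zero, hx]
  · rw [addr, smulr, f.symm r' r, h0, mul_zero, add_zero, hx']

/-- An anisotropic vector orthogonal to a few vectors with duals in their span. -/
theorem aniso_perp {k : ℕ} (hk : k < n) (u w : Fin k → V3 n)
    (hd : ∀ i j, f.B (u i) (w j) = if i = j then 1 else 0)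
    (hspan : ∀ t, (∀ i, f.B (u i) t = 0) → ∀ i, f.B (w i) t = 0) :
    ∃ t, f.B t t ≠ 0 ∧ ∀ i, f.B (u i) t = 0 := by
  by_contra hno
  push Not at hno
  have hiso : ∀ t, (∀ i, f.B (u i) t = 0) → f.B t t = 0 := fun t ht => by
    by_contra h
    obtain ⟨i, hi⟩ := hno t h
    exact hi (ht i)
  have horth : ∀ t s, (∀ i, f.B (u i) t = 0) → (∀ i, f.B (u i) s = 0) → f.B t s = 0 := by
    intro t s ht hs
    have := hiso (t + s) fun i => by rw [addr, ht i, hs i, add_zero]
    rw [addl, addr, addr, hiso t ht, hiso s hs, f.symm s t] at this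
    linear_combination f.B t s * three - this
  obtain ⟨t, ht0, ht⟩ : ∃ t, t ≠ 0 ∧ ∀ i, f.B (u i) t = 0 := by
    by_contra h
    push Not at h
    let L : V3 n →ₗ[ZMod 3] (Fin k → ZMod 3) := LinearMap.pi fun i => f.B (u i)
    have hL : Function.Injective L := by
      rw [← LinearMap.ker_eq_bot, LinearMap.ker_eq_bot']
      intro x hx
      by_contra hx0
      obtain ⟨i, hi⟩ := h x hx0
      exact hi (congrFun hx i)
    have := LinearMap.finrank_le_finrank_of_injective hL
    rw [Module.finrank_fin_fun, Module.finrank_fin_fun] at this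
    omega
  refine ht0 (f.nondeg t fun x => ?_)
  have hp : ∀ j, f.B (u j) (x - ∑ i, f.B (u i) x • w i) = 0 := fun j => by
    rw [subr, map_sum]
    simp [hd]
  have := horth t _ ht hp
  rw [subr, map_sum, Finset.sum_eq_zero fun i _ => by
    rw [smulr, f.symm t (w i), hspan t ht i, mul_zero], sub_zero] at this
  exact this

/-- Two isotropic vectors with the same orthogonal points are equal up to sign. -/
theorem sect_det (hn : 5 ≤ n) {r r' : V3 n} (hq : f.B r r = 0) (hr' : r' ≠ 0)
    (hq' : f.B r' r' = 0) (h : ∀ v, f.Pt v → f.B r v = 0 → f.B r' v = 0) : r' = r ∨ r' = -r := by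
  by_contra hcon
  push Not at hcon
  obtain ⟨hne, hne'⟩ := hcon
  by_cases h0 : f.B r r' = 0
  · obtain ⟨x, hx', hx⟩ := dual f (indep hr' hne.symm (fun h => hne' (by rw [h, neg_neg])))
    set v := x + (f.B x x - 1) • r' with hv
    have hp : f.Pt v := by
      show f.B v v = 1
      simp only [hv, addl, addr, smull, smulr, hq', f.symm x r', hx']
      linear_combination (f.B x x - 1) * three
    have h1 : f.B r v = 0 := by rw [hv, addr, smulr, h0, mul_zero, add_zero, hx]
    have h2 := h v hp h1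
    rw [hv, addr, smulr, hq', mul_zero, add_zero, hx'] at h2
    exact one_ne h2
  obtain ⟨s, hs, hsq, hrs⟩ : ∃ s, (s = r' ∨ s = -r') ∧ f.B s s = 0 ∧ f.B r s = -1 := by
    rcases trit (f.B r r') with e | e | e
    · exact absurd e h0
    · exact ⟨-r', Or.inr rfl, by rw [negl, negr, hq']; simp, by rw [negr, e]⟩
    · exact ⟨r', Or.inl rfl, hq', e⟩
  have hsr : f.B s r = -1 := f.symm s r ▸ hrs
  have key : ∀ t, f.B t t = 1 → f.B r t = 0 → f.B s t = 0 → False := by
    intro t ht hrt hst
    set v := -r + t with hv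
    have hp : f.Pt v := by
      show f.B v v = 1
      simp only [hv, addl, addr, negl, negr, hq, hrt, f.symm t r, ht]
      ring
    have h2 := h v hp (by simp only [hv, addr, negr, hq, hrt]; ring)
    have h3 : f.B s v = 1 := by simp only [hv, addr, negr, hsr, hst]; ring
    rcases hs with rfl | rfl
    · exact one_ne (h3 ▸ h2)
    · rw [negl, h2, neg_zero] at h3; exact one_ne h3.symm
  obtain ⟨t, ht, htp⟩ := aniso_perp (f := f) (by omega : 2 < n) ![r, s] ![-s, -r] (by
    intro i j; fin_cases i <;> fin_cases j <;> simp [negr, hrs, hsr, hq, hsq]) (by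
    intro t ht i
    fin_cases i
    · simpa [negl] using ht 1
    · simpa [negl] using ht 0)
  have ht0 : f.B r t = 0 := htp 0
  have ht1 : f.B s t = 0 := htp 1
  rcases trit (f.B t t) with e | e | e
  · exact ht e
  · exact key t e ht0 ht1
  obtain ⟨x, hx, hxp⟩ := aniso_perp (f := f) (by omega : 3 < n) ![r, s, t] ![-s, -r, -t] (by
    intro i j; fin_cases i <;> fin_cases j <;>
      simp [negr, hrs, hsr, hq, hsq, ht0, ht1, e, f.symm t r, f.symm t s]) (by
    intro x hx i
    fin_cases i
    · simpa [negl] using hx 1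
    · simpa [negl] using hx 0
    · simpa [negl] using hx 2)
  have hx0 : f.B r x = 0 := hxp 0
  have hx1 : f.B s x = 0 := hxp 1
  have hx2 : f.B t x = 0 := hxp 2
  rcases trit (f.B x x) with e' | e' | e'
  · exact hx e'
  · exact key x e' hx0 hx1
  · refine key (t + x) ?_ (by rw [addr, ht0, hx0, add_zero]) (by rw [addr, ht1, hx1, add_zero])
    simp only [addl, addr, e, e', hx2, f.symm x t]
    decide

/-- A common neighbour of a special quadruple. -/
theorem exists_between (hn : 5 ≤ n) {r0 r w w' : V3 n} (h00 : f.B r0 r0 = 0) (hrr : f.B r r = 0)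
    (hww : f.B w w = 0) (hww' : f.B w' w' = 0) (h0r : f.B r0 r = 0) (hw : f.B w w' = 0)
    (h0w : f.B r0 w = 1) (h0w' : f.B r0 w' = 1) (hrw : f.B r w = 1) (hrw' : f.B r w' = -1) :
    ∃ x, f.B x x = 0 ∧ f.B r0 x = 1 ∧ f.B r x ≠ 0 ∧ f.B w x ≠ 0 ∧ f.B w' x ≠ 0 := by
  have e1 := f.symm r r0
  have e2 := f.symm w' w
  have e3 := f.symm w r0
  have e4 := f.symm w' r0
  have e5 := f.symm w r
  have e6 := f.symm w' r
  rw [h0r] at e1
  rw [hw] at e2
  rw [h0w] at e3
  rw [h0w'] at e4
  rw [hrw] at e5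
  rw [hrw'] at e6
  obtain ⟨t, ht, htp⟩ := aniso_perp (f := f) (by omega : 4 < n) ![r0, r, w, w']
    ![-w - w', w' - w, -r0 - r, r - r0] (by
      intro i j
      fin_cases i <;> fin_cases j <;>
        simp [subr, negr, h00, hrr, hww, hww', h0r, hw, h0w, h0w', hrw, hrw', e1, e2, e3, e4,
          e5, e6] <;> decide) (by
      intro t ht i
      have a0 : f.B r0 t = 0 := ht 0
      have a1 : f.B r t = 0 := ht 1
      have a2 : f.B w t = 0 := ht 2
      have a3 : f.B w' t = 0 := ht 3
      fin_cases i <;> simp [a0, a1, a2, a3])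
  have a0 : f.B r0 t = 0 := htp 0
  have a1 : f.B r t = 0 := htp 1
  have a2 : f.B w t = 0 := htp 2
  have a3 : f.B w' t = 0 := htp 3
  refine ⟨f.B t t • r0 + w + t, ?_, ?_, ?_, ?_, ?_⟩
  · simp only [addl, addr, smull, smulr, h00, hww, h0w, e3, a0, a2, f.symm t r0, f.symm t w]
    linear_combination f.B t t * three
  · simp only [addr, smulr, h00, h0w, a0]; ring
  · simp only [addr, smulr, e1, hrw, a1]; simp
  · simp only [addr, smulr, e3, hww, a2]; simpa using ht
  · simp only [addr, smulr, e4, e2, a3]; simpa using ht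

/-- A common neighbour of three isotropic vectors. -/
theorem exists_triple {r0 r r' : V3 n} (h0 : r0 ≠ 0) (h00 : f.B r0 r0 = 0) (hrr : f.B r r = 0)
    (hrr' : f.B r' r' = 0) (h0r : f.B r0 r = 0) (h0r' : f.B r0 r' = 0) (hc : f.B r r' ≠ 0) :
    ∃ w, f.B w w = 0 ∧ f.B r0 w = 1 ∧ f.B r w = 1 ∧ f.B r' w = 1 := by
  obtain ⟨y, hy⟩ : ∃ y, f.B r0 y ≠ 0 := by
    by_contra h
    push Not at h
    exact h0 (f.nondeg r0 h)
  obtain ⟨a, ha⟩ : ∃ a, f.B r0 a = 1 := ⟨f.B r0 y • y, by rw [smulr, sq_one hy]⟩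
  set c := f.B r r'
  set x := a + (c * (1 - f.B r' a)) • r + (c * (1 - f.B r a)) • r' with hx
  have hx0 : f.B r0 x = 1 := by simp only [hx, addr, smulr, h0r, h0r', ha]; ring
  have hx1 : f.B r x = 1 := by
    simp only [hx, addr, smulr, hrr]
    linear_combination (1 - f.B r a) * sq_one hc
  have hx2 : f.B r' x = 1 := by
    simp only [hx, addr, smulr, hrr', f.symm r' r]
    linear_combination (1 - f.B r' a) * sq_one hc
  refine ⟨x + f.B x x • r0, ?_, ?_, ?_, ?_⟩
  · simp only [addl, addr, smull, smulr, h00, f.symm x r0, hx0]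
    linear_combination f.B x x * three
  · rw [addr, smulr, h00, mul_zero, add_zero, hx0]
  · rw [addr, smulr, f.symm r r0, h0r, mul_zero, add_zero, hx1]
  · rw [addr, smulr, f.symm r' r0, h0r', mul_zero, add_zero, hx2]

end H68.Refl
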