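/-
The members not commuting with a transposition, each paired with an isotropic vector up to sign:
two of them commute exactly for one of the two choices of sign, and triangles of signs are consistent.
-/
import Cfsg.Agent.H68.Refl.Form

set_option autoImplicit false
set_option linter.unusedSectionVars false

namespace H68.Refl

open Cfsg H71.Fischer

variable {G : Type*} [Group G] {n : ℕ}

/-- What is used of the class, the coordinates at `d` and the sections. -/
structure Sys (D : Set G) (d : G) (f : Form3 n) (pt : V3 n → G) : Prop where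
  tt : IsThreeTranspositionSet D
  conj : ∀ g : G, ∀ x ∈ D, g * x * g⁻¹ ∈ D
  mem : d ∈ D
  chart : Chart (H99.perp D d) f pt
  dim : 5 ≤ n
  sect : ∀ y ∈ D, ¬ Commute d y → ∃ r, Link3 D d y f pt r
  fibre : ∀ y ∈ D, ∀ y' ∈ D, ¬ Commute d y → ¬ Commute d y' →
    H99.perp D d ∩ H99.perp D y = H99.perp D d ∩ H99.perp D y' → y' = y ∨ y' = d * y * d
  deg : ∀ y ∈ D, (H99.perp D y).ncard = (H99.perp D d).ncard
  far : ∃ y ∈ D, ¬ Commute d y

/-- `r` describes the partners of `y` among those of `d`. -/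
structure Sect (D : Set G) (d : G) (f : Form3 n) (pt : V3 n → G) (y : G) (r : V3 n) : Prop where
  mem : y ∈ D
  far : ¬ Commute d y
  ne_zero : r ≠ 0
  iso : f.B r r = 0
  comm : ∀ v, f.Pt v → (Commute (pt v) y ↔ f.B r v = 0)

/-- The signs of two pairs agree. -/
def Co (f : Form3 n) (y : G) (r : V3 n) (y' : G) (r' : V3 n) : Prop :=
  Commute y y' ↔ f.B r r' = -1

theorem Co.symm {f : Form3 n} {y y' : G} {r r' : V3 n} (h : Co f y r y' r') : Co f y' r' y r := by
  rw [Co, f.symm r' r]
  exact ⟨fun hc => h.1 hc.symm, fun e => (h.2 e).symm⟩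

variable {D : Set G}

theorem sandwich_mem (hT : IsThreeTranspositionSet D) (hconj : ∀ g : G, ∀ x ∈ D, g * x * g⁻¹ ∈ D)
    {g x : G} (hg : g ∈ D) (hx : x ∈ D) : g * x * g ∈ D := by
  have := hconj g x hx
  rwa [H99.tt_inv hT hg] at this

theorem sandwich_twice {g : G} (hg : g * g = 1) (x : G) : g * (g * x * g) * g = x := by
  calc g * (g * x * g) * g = (g * g) * x * (g * g) := by group
    _ = x := by rw [hg, one_mul, mul_one]

theorem sandwich_inj {g : G} (hg : g * g = 1) {x y : G} (h : g * x * g = g * y * g) : x = y := by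
  rw [← sandwich_twice hg x, h, sandwich_twice hg]

theorem sandwich_commute {g : G} (hg : g * g = 1) (a b : G) :
    Commute (g * a * g) (g * b * g) ↔ Commute a b := by
  have hi : g⁻¹ = g := inv_eq_of_mul_eq_one_right hg
  have := H99.conj_commute_iff g a b
  rwa [hi] at this

theorem sandwich_left {g : G} (hg : g * g = 1) (a b : G) :
    Commute (g * a * g) b ↔ Commute a (g * b * g) := by
  rw [← sandwich_commute hg (g * a * g) b, sandwich_twice hg]

theorem sandwich_fix {g x : G} (hg : g * g = 1) (h : Commute g x) : g * x * g = x := by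
  rw [h.eq, mul_assoc, hg, mul_one]

theorem braid (hT : IsThreeTranspositionSet D) {a b : G} (ha : a ∈ D) (hb : b ∈ D)
    (h : ¬ Commute a b) : a * b * a = b * a * b := H99.tt_braid hT ha hb h

variable {d : G} {f : Form3 n} {pt : V3 n → G}

namespace Sys

variable (S : Sys D d f pt)
include S

theorem dd : d * d = 1 := H99.tt_mul_self S.tt S.mem

theorem sq {x : G} (hx : x ∈ D) : x * x = 1 := H99.tt_mul_self S.tt hx

theorem pt_mem {v : V3 n} (hv : f.Pt v) : pt v ∈ D := (S.chart.mem v hv).1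

theorem pt_comm {v : V3 n} (hv : f.Pt v) : Commute d (pt v) := (S.chart.mem v hv).2.2

theorem pt_ne {v : V3 n} (hv : f.Pt v) : pt v ≠ d := (S.chart.mem v hv).2.1

theorem pt_neg_eq {v : V3 n} (hv : f.Pt v) : pt (-v) = pt v :=
  (S.chart.eq_iff _ _ (pt_neg hv) hv).2 (Or.inr rfl)

theorem pt_smul {v : V3 n} {c : ZMod 3} (hc : c ≠ 0) (hv : f.Pt v) : pt (c • v) = pt v := by
  rcases trit c with rfl | rfl | rfl
  · exact absurd rfl hc
  · rw [one_smul]
  · rw [neg_one_smul, S.pt_neg_eq hv]

theorem exists_sect {y : G} (hy : y ∈ D) (hdy : ¬ Commute d y) : ∃ r, Sect D d f pt y r := by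
  obtain ⟨r, h0, hq, he⟩ := S.sect y hy hdy
  refine ⟨r, hy, hdy, h0, hq, fun v hv => ⟨fun hc => ?_, fun hB => ?_⟩⟩
  · obtain ⟨u, hu, hue⟩ : pt v ∈ pt '' f.sect r := he ▸ ⟨S.chart.mem v hv,
      S.pt_mem hv, fun e => hdy (e ▸ S.pt_comm hv), hc.symm⟩
    rcases (S.chart.eq_iff u v hu.1 hv).1 hue with rfl | rfl
    · exact hu.2
    · simpa [negr] using hu.2
  · exact (he.symm ▸ ⟨v, ⟨hv, hB⟩, rfl⟩ : pt v ∈ H99.perp D d ∩ H99.perp D y).2.2.2.symm

theorem sect_unique {y : G} {r r' : V3 n} (h : Sect D d f pt y r) (h' : Sect D d f pt y r') :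
    r' = r ∨ r' = -r :=
  sect_det S.dim h.iso h'.ne_zero h'.iso fun v hv hB =>
    (h'.comm v hv).1 ((h.comm v hv).2 hB)

theorem common_eq {y y' : G} {r : V3 n} (h : Sect D d f pt y r) (h' : Sect D d f pt y' r) :
    y' = y ∨ y' = d * y * d := by
  refine S.fibre y h.mem y' h'.mem h.far h'.far (Set.ext fun z => ?_)
  refine and_congr_right fun hz => ?_
  obtain ⟨v, hv, rfl⟩ := S.chart.surj z hz
  have key : ∀ {a : G}, a ∈ D → ¬ Commute d a → (pt v ∈ H99.perp D a ↔ Commute (pt v) a) :=
    fun {a} ha hda => ⟨fun h => h.2.2.symm,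
      fun h => ⟨hz.1, fun e => hda (e ▸ hz.2.2), h.symm⟩⟩
  rw [key h.mem h.far, key h'.mem h'.far, h.comm v hv, h'.comm v hv]

theorem flip {y : G} {r : V3 n} (h : Sect D d f pt y r) : Sect D d f pt (d * y * d) (-r) where
  mem := sandwich_mem S.tt S.conj S.mem h.mem
  far hc := h.far ((sandwich_commute S.dd d y).1 (by rwa [sandwich_fix S.dd (Commute.refl d)]))
  ne_zero := neg_ne_zero.2 h.ne_zero
  iso := by rw [negl, negr, neg_neg, h.iso]
  comm v hv := by
    conv_lhs => rw [← sandwich_fix S.dd (S.pt_comm hv), sandwich_commute S.dd, h.comm v hv]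
    rw [negl, neg_eq_zero]

theorem conj_sect {y : G} {r v : V3 n} (h : Sect D d f pt y r) (hv : f.Pt v) :
    Sect D d f pt (pt v * y * pt v) (f.ref v r) where
  mem := sandwich_mem S.tt S.conj (S.pt_mem hv) h.mem
  far hc := h.far ((sandwich_commute (S.sq (S.pt_mem hv)) d y).1
    (by rwa [sandwich_fix (S.sq (S.pt_mem hv)) (S.pt_comm hv).symm]))
  ne_zero := ref_iso_ne h.ne_zero h.iso
  iso := by rw [ref_norm hv, h.iso]
  comm w hw := by
    rw [← sandwich_left (S.sq (S.pt_mem hv)), S.chart.conj w v hw hv,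
      h.comm _ (show f.Pt (f.ref v w) from (ref_norm hv w).trans hw), ref_adj]

/-- The member commuting with `y` obtained from a point moving it. -/
theorem nbr {y : G} {r r' : V3 n} (h : Sect D d f pt y r) (hq : f.B r' r' = 0)
    (hB : f.B r r' = -1) : f.Pt (r + r') ∧
    Sect D d f pt (d * (pt (r + r') * y * pt (r + r')) * d) r' := by
  have hv : f.Pt (r + r') := by
    show f.B (r + r') (r + r') = 1
    rw [addl, addr, addr, h.iso, hq, f.symm r' r, hB]
    decide
  refine ⟨hv, ?_⟩
  have h2 := S.flip (S.conj_sect h hv)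
  have he : -f.ref (r + r') r = r' := by
    rw [Form3.ref, addr, h.iso, hB, zero_add, neg_one_smul]
    abel
  rwa [he] at h2

/-- A member commuting with `d` and not with `y` gives a partner of `y`. -/
theorem phi_commute {z y : G} (hz : z ∈ D) (hy : y ∈ D) (hdy : ¬ Commute d y)
    (hzy : ¬ Commute z y) (hdz : Commute d z) : Commute y (d * (z * y * z) * d) := by
  refine ((sandwich_left S.dd (z * y * z) y).2 ?_).symm
  rw [braid S.tt hz hy hzy, braid S.tt S.mem hy hdy, sandwich_commute (S.sq hy)]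
  exact hdz.symm

variable [Finite G]

/-- All the partners of `y` not commuting with `d`. -/
theorem commute_imp {y y' : G} {r : V3 n} (h : Sect D d f pt y r) (hy' : y' ∈ D)
    (hdy' : ¬ Commute d y') (hne : y' ≠ y) (hc : Commute y y') :
    ∃ v, f.Pt v ∧ f.B r v ≠ 0 ∧ y' = d * (pt v * y * pt v) * d := by
  set φ := fun z => d * (z * y * z) * d with hφ
  set T := H99.perp D d \ H99.perp D y with hT
  set U := H99.perp D y \ H99.perp D d with hU
  have hTn : ∀ z ∈ T, ¬ Commute z y := fun z hz hzy =>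
    hz.2 ⟨hz.1.1, fun e => h.far (e ▸ hz.1.2.2), hzy.symm⟩
  have hsub : φ '' T ⊆ U := by
    rintro _ ⟨z, hz, rfl⟩
    have hm : z * y * z ∈ D := sandwich_mem S.tt S.conj hz.1.1 h.mem
    refine ⟨⟨sandwich_mem S.tt S.conj S.mem hm, fun e => hz.1.2.1 ?_,
      S.phi_commute hz.1.1 h.mem h.far (hTn z hz) hz.1.2.2⟩, fun hd' => h.far ?_⟩
    · have e' : z * y * z = d * y * d := by
        have := congrArg (fun x => d * x * d) e
        simpa only [hφ, sandwich_twice S.dd] using this
      rw [braid S.tt hz.1.1 h.mem (hTn z hz), braid S.tt S.mem h.mem h.far] at e'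
      exact sandwich_inj (S.sq h.mem) e'
    · have h1 : Commute d (d * (z * y * z) * d) := hd'.2.2
      have h2 : Commute d (z * y * z) := by
        rw [← sandwich_commute S.dd, sandwich_fix S.dd (Commute.refl d)]; exact h1
      refine (sandwich_commute (S.sq hz.1.1) d y).1 ?_
      rwa [sandwich_fix (S.sq hz.1.1) hz.1.2.2.symm]
  have hinj : Set.InjOn φ T := by
    intro z hz z' hz' e
    have e' := sandwich_inj S.dd e
    rw [braid S.tt hz.1.1 h.mem (hTn z hz), braid S.tt hz'.1.1 h.mem (hTn z' hz')] at e'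
    exact sandwich_inj (S.sq h.mem) e'
  have hcard : U.ncard ≤ (φ '' T).ncard := by
    rw [hinj.ncard_image]
    have h1 := Set.ncard_inter_add_ncard_sdiff_eq_ncard (H99.perp D d) (H99.perp D y)
      (Set.toFinite _)
    have h2 := Set.ncard_inter_add_ncard_sdiff_eq_ncard (H99.perp D y) (H99.perp D d)
      (Set.toFinite _)
    rw [Set.inter_comm, S.deg y h.mem] at h2
    rw [← hU] at h2
    rw [← hT] at h1
    omega
  obtain ⟨z, hz, rfl⟩ : y' ∈ φ '' T := by
    rw [Set.eq_of_subset_of_ncard_le hsub hcard (Set.toFinite _)]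
    exact ⟨⟨hy', hne, hc⟩, fun h' => hdy' h'.2.2⟩
  obtain ⟨v, hv, rfl⟩ := S.chart.surj z hz.1
  exact ⟨v, hv, fun h0 => hTn _ hz ((h.comm v hv).2 h0), rfl⟩

theorem commute_ne_zero {y y' : G} {r r' : V3 n} (h : Sect D d f pt y r)
    (h' : Sect D d f pt y' r') (hne : y' ≠ y) (hc : Commute y y') : f.B r r' ≠ 0 := by
  obtain ⟨v, hv, h0, rfl⟩ := S.commute_imp h h'.mem h'.far hne hc
  have hkey : f.B r (f.ref v r) = 1 := by
    rw [Form3.ref, addr, h.iso, zero_add, smulr, sq_one h0]
  rcases S.sect_unique (S.flip (S.conj_sect h hv)) h' with rfl | rfl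
  · rw [negr, hkey]; decide
  · rw [neg_neg, hkey]; decide

/-- Exactly one member over a non-orthogonal vector commutes with `y`. -/
theorem one {y y' : G} {r r' : V3 n} (h : Sect D d f pt y r) (h' : Sect D d f pt y' r')
    (hB : f.B r r' ≠ 0) : Commute y (d * y' * d) ↔ ¬ Commute y y' := by
  obtain ⟨s, hs, hsB⟩ : ∃ s, (s = r' ∨ s = -r') ∧ f.B r s = -1 := by
    rcases trit (f.B r r') with e | e | e
    · exact absurd e hB
    · exact ⟨-r', Or.inr rfl, by rw [negr, e]⟩
    · exact ⟨r', Or.inl rfl, e⟩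
  have hsq : f.B s s = 0 := by
    rcases hs with rfl | rfl
    · exact h'.iso
    · rw [negl, negr, neg_neg, h'.iso]
  obtain ⟨hv, hn⟩ := S.nbr h hsq hsB
  set z := pt (r + s) with hz
  have hzy : ¬ Commute z y := fun hc => by
    have h0 := (h.comm _ hv).1 hc
    rw [addr, h.iso, hsB, zero_add] at h0
    revert h0; decide
  have hyes : Commute y (d * (z * y * z) * d) :=
    S.phi_commute (S.pt_mem hv) h.mem h.far hzy (S.pt_comm hv)
  have hno : ¬ Commute y (z * y * z) := by
    rw [braid S.tt (S.pt_mem hv) h.mem hzy]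
    intro hc
    have h1 := (sandwich_left (S.sq h.mem) z y).1 hc.symm
    rw [sandwich_fix (S.sq h.mem) (Commute.refl y)] at h1
    exact hzy h1
  have hsect : Sect D d f pt y' s ∨ Sect D d f pt (d * y' * d) s := by
    rcases hs with rfl | rfl
    · exact Or.inl h'
    · exact Or.inr (S.flip h')
  have hw : y' = d * (z * y * z) * d ∨ y' = z * y * z := by
    rcases hsect with h'' | h'' <;> rcases S.common_eq hn h'' with e | e
    · exact Or.inl e
    · right; rwa [sandwich_twice S.dd] at e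
    · right; rw [← sandwich_twice S.dd y', e, sandwich_twice S.dd]
    · left; exact sandwich_inj S.dd e
  rcases hw with rfl | rfl
  · rw [sandwich_twice S.dd]; exact iff_of_false hno (not_not_intro hyes)
  · exact iff_of_true hyes hno

theorem co_flip {y y' : G} {r r' : V3 n} (h : Sect D d f pt y r) (h' : Sect D d f pt y' r')
    (hB : f.B r r' ≠ 0) : Co f y r (d * y' * d) (-r') ↔ Co f y r y' r' := by
  rw [Co, Co, S.one h h' hB, negr]
  generalize f.B r r' = b at hB ⊢
  rcases trit b with rfl | rfl | rfl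
  · exact absurd rfl hB
  · simp [ne_neg_one_one]
  · simp [ne_neg_one_one]

theorem exists_co {y : G} {r r' : V3 n} (h : Sect D d f pt y r) (hq : f.B r' r' = 0)
    (hB : f.B r r' ≠ 0) : ∃ y', Sect D d f pt y' r' ∧ Co f y r y' r' := by
  have main : ∀ s : V3 n, f.B s s = 0 → f.B r s = -1 →
      ∃ y', Sect D d f pt y' s ∧ Co f y r y' s := fun s hsq hsB => by
    obtain ⟨hv, hn⟩ := S.nbr h hsq hsB
    refine ⟨_, hn, iff_of_true (S.phi_commute (S.pt_mem hv) h.mem h.far (fun hc => ?_)
      (S.pt_comm hv)) hsB⟩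
    have h0 := (h.comm _ hv).1 hc
    rw [addr, h.iso, hsB, zero_add] at h0
    revert h0; decide
  rcases trit (f.B r r') with e | e | e
  · exact absurd e hB
  · obtain ⟨y', hy', hco⟩ := main (-r') (by rw [negl, negr, neg_neg, hq]) (by rw [negr, e])
    have hy'' := S.flip hy'
    rw [neg_neg] at hy''
    refine ⟨_, hy'', ?_⟩
    have := (S.co_flip h hy' (by rwa [negr, neg_ne_zero])).2 hco
    rwa [neg_neg] at this
  · exact main r' hq e

theorem co_unique {y y1 y2 : G} {r r' : V3 n} (h : Sect D d f pt y r)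
    (h1 : Sect D d f pt y1 r') (h2 : Sect D d f pt y2 r') (hB : f.B r r' ≠ 0)
    (c1 : Co f y r y1 r') (c2 : Co f y r y2 r') : y2 = y1 := by
  rcases S.common_eq h1 h2 with e | e
  · exact e
  · exfalso
    subst e
    rw [Co, S.one h h1 hB] at c2
    exact (iff_not_self : ¬ (Commute y y1 ↔ ¬ Commute y y1)) (c1.trans c2.symm)

/-- Triangles of signs are consistent. -/
theorem tri {y y1 y2 : G} {r r1 r2 : V3 n} (h : Sect D d f pt y r) (h1 : Sect D d f pt y1 r1)
    (h2 : Sect D d f pt y2 r2) (hB1 : f.B r r1 ≠ 0) (hB2 : f.B r r2 ≠ 0) (hB : f.B r1 r2 ≠ 0)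
    (c1 : Co f y r y1 r1) (c2 : Co f y r y2 r2) : Co f y1 r1 y2 r2 := by
  have main : ∀ {a b : G} {s t : V3 n}, Sect D d f pt a s → Sect D d f pt b t →
      f.B r s = -1 → f.B r t = -1 → f.B s t ≠ 0 → Co f y r a s → Co f y r b t →
      Co f a s b t := by
    intro a b s t ha hb hs ht hst ca cb
    have hs0 : f.B r s ≠ 0 := by rw [hs]; decide
    have ht0 : f.B r t ≠ 0 := by rw [ht]; decide
    obtain ⟨hv, hn⟩ := S.nbr h ha.iso hs
    obtain ⟨hu, hm⟩ := S.nbr h hb.iso ht
    have hzy : ∀ {w}, f.B r w = -1 → f.Pt (r + w) → ¬ Commute (pt (r + w)) y := by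
      intro w hw hp hc
      have h0 := (h.comm _ hp).1 hc
      rw [addr, h.iso, hw, zero_add] at h0
      revert h0; decide
    have ea := S.co_unique h hn ha hs0 (iff_of_true (S.phi_commute (S.pt_mem hv) h.mem h.far
      (hzy hs hv) (S.pt_comm hv)) hs) ca
    have eb := S.co_unique h hm hb ht0 (iff_of_true (S.phi_commute (S.pt_mem hu) h.mem h.far
      (hzy ht hu) (S.pt_comm hu)) ht) cb
    subst ea eb
    rw [Co, sandwich_commute S.dd, braid S.tt (S.pt_mem hv) h.mem (hzy hs hv),
      braid S.tt (S.pt_mem hu) h.mem (hzy ht hu), sandwich_commute (S.sq h.mem),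
      S.chart.comm _ _ hv hu ?_ ?_]
    · rw [addl, addr, addr, h.iso, ht, f.symm s r, hs]
      generalize f.B s t = b
      revert b; decide
    · intro e
      rw [add_left_cancel e, hb.iso] at hst
      exact hst rfl
    · intro e
      have e' : f.B r (r + s) = -f.B r (r + t) := by rw [e, negr]
      rw [addr, addr, h.iso, hs, ht] at e'
      revert e'; decide
  have main' : ∀ {a b : G} {s t : V3 n}, Sect D d f pt a s → Sect D d f pt b t →
      f.B r s = -1 → f.B r t ≠ 0 → f.B s t ≠ 0 → Co f y r a s → Co f y r b t →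
      Co f a s b t := by
    intro a b s t ha hb hs ht hst ca cb
    rcases trit (f.B r t) with e | e | e
    · exact absurd e ht
    · exact (S.co_flip ha hb hst).1 (main ha (S.flip hb) hs (by rw [negr, e])
        (by rwa [negr, neg_ne_zero]) ca ((S.co_flip h hb ht).2 cb))
    · exact main ha hb hs e hst ca cb
  rcases trit (f.B r r1) with e | e | e
  · exact absurd e hB1
  · have hst : f.B r2 r1 ≠ 0 := f.symm r2 r1 ▸ hB
    have := main' (S.flip h1) h2 (by rw [negr, e]) hB2 (by rwa [negl, neg_ne_zero])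
      ((S.co_flip h h1 hB1).2 c1) c2
    exact ((S.co_flip h2 h1 hst).1 this.symm).symm
  · exact main' h1 h2 e hB2 hB c1 c2

end Sys

end H68.Refl
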