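/-
A choice of sign for all the members not commuting with a transposition, and how conjugation acts
on the chosen vectors.
-/
import Cfsg.Agent.H68.Refl.Pairs

set_option autoImplicit false
set_option linter.unusedSectionVars false

namespace H68.Refl

open Cfsg H71.Fischer

variable {G : Type*} [Group G] [Finite G] {n : ℕ} {D : Set G} {d : G} {f : Form3 n}
  {pt : V3 n → G}

/-- The pair has the sign determined by the base pair. -/
structure Good (D : Set G) (d : G) (f : Form3 n) (pt : V3 n → G) (y0 : G) (r0 : V3 n) (y : G)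
    (r : V3 n) : Prop where
  sect : Sect D d f pt y r
  base : r = r0 → y = y0
  base_neg : r = -r0 → y = d * y0 * d
  near : f.B r0 r ≠ 0 → Co f y0 r0 y r
  far : f.B r0 r = 0 → r ≠ r0 → r ≠ -r0 → ∀ z w, Sect D d f pt z w → f.B r0 w ≠ 0 →
    f.B w r ≠ 0 → Co f y0 r0 z w → Co f z w y r

namespace Sys

variable (S : Sys D d f pt) {y0 : G} {r0 : V3 n} (h0 : Sect D d f pt y0 r0)
include S h0

theorem r0_ne_neg : r0 ≠ -r0 := fun h => by
  obtain ⟨y, hy⟩ : ∃ y, f.B r0 y ≠ 0 := by
    by_contra h'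
    push Not at h'
    exact h0.ne_zero (f.nondeg r0 h')
  have := congrArg (fun x => f.B x y) h
  simp only [negl] at this
  revert this hy
  generalize f.B r0 y = b
  revert b; decide

theorem good_exists {r : V3 n} (hr : r ≠ 0) (hq : f.B r r = 0) :
    ∃ y, Good D d f pt y0 r0 y r := by
  by_cases h1 : r = r0
  · subst h1
    exact ⟨y0, h0, fun _ => rfl, fun e => absurd e (S.r0_ne_neg h0), fun h => absurd h0.iso h,
      fun _ h => absurd rfl h⟩
  by_cases h2 : r = -r0
  · subst h2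
    exact ⟨d * y0 * d, S.flip h0, fun e => absurd e.symm (S.r0_ne_neg h0), fun _ => rfl,
      fun h => absurd (by rw [negr, h0.iso, neg_zero]) h, fun _ _ h => absurd rfl h⟩
  by_cases h3 : f.B r0 r = 0
  swap
  · obtain ⟨y, hy, hc⟩ := S.exists_co h0 hq h3
    exact ⟨y, hy, fun e => absurd e h1, fun e => absurd e h2, fun _ => hc, fun e => absurd e h3⟩
  obtain ⟨w, hwq, hw0, hwr⟩ := iso_pair (a := 1) h0.ne_zero h0.iso hr h1 h2 h3 one_ne (1 : ZMod 3)
  obtain ⟨z, hz, hzc⟩ := S.exists_co h0 hwq (by rw [hw0]; exact one_ne)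
  have hwr' : f.B w r ≠ 0 := by rw [f.symm w r, hwr]; exact one_ne
  obtain ⟨y, hy, hc⟩ := S.exists_co hz hq hwr'
  refine ⟨y, hy, fun e => absurd e h1, fun e => absurd e h2, fun h => absurd h3 h, ?_⟩
  let A : V3 n → Prop := fun v => ∀ x, Sect D d f pt x v → Co f y0 r0 x v → Co f x v y r
  have hAw : A w := fun x hx hxc => by
    rw [S.co_unique h0 hz hx (by rw [hw0]; exact one_ne) hzc hxc]
    exact hc
  have step : ∀ u v, f.B u u = 0 → f.B r0 u = 1 → f.B r u ≠ 0 → f.B r0 v = 1 → f.B r v ≠ 0 →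
      f.B u v ≠ 0 → A u → A v := by
    intro u v huq hu0 hur hv0 hvr huv hA x hx hxc
    have hu0' : f.B r0 u ≠ 0 := by rw [hu0]; exact one_ne
    have hv0' : f.B r0 v ≠ 0 := by rw [hv0]; exact one_ne
    obtain ⟨a, ha, hac⟩ := S.exists_co h0 huq hu0'
    exact S.tri ha hx hy huv (by rwa [f.symm u r]) (by rwa [f.symm v r])
      (S.tri h0 ha hx hu0' hv0' huv hac hxc) (hA a ha hac)
  have twoStep : ∀ u v, f.B u u = 0 → f.B v v = 0 → f.B r0 u = 1 → f.B r0 v = 1 →
      f.B r u ≠ 0 → f.B r v ≠ 0 → f.B r u ≠ f.B r v → A u → A v := by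
    intro u v huq hvq hu0 hv0 hur hvr hne hA
    by_cases huv : f.B u v = 0
    swap
    · exact step u v huq hu0 hur hv0 hvr huv hA
    obtain ⟨x, hxq, hx0, hxr, hxu, hxv⟩ : ∃ x, f.B x x = 0 ∧ f.B r0 x = 1 ∧ f.B r x ≠ 0 ∧
        f.B u x ≠ 0 ∧ f.B v x ≠ 0 := by
      rcases trit (f.B r u) with e | e | e
      · exact absurd e hur
      · exact exists_between S.dim h0.iso hq huq hvq h3 huv hu0 hv0 e
          (by rw [eq_neg_of_ne hur hvr hne, e])
      · obtain ⟨x, a, b, c, p, q⟩ := exists_between S.dim h0.iso hq hvq huq h3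
          (by rw [f.symm v u]; exact huv) hv0 hu0
          (by rw [eq_neg_of_ne hur hvr hne, e, neg_neg]) e
        exact ⟨x, a, b, c, q, p⟩
    exact step x v hxq hx0 hxr hv0 hvr (by rwa [f.symm x v]) (step u x huq hu0 hur hx0 hxr hxu hA)
  have any : ∀ v, f.B v v = 0 → f.B r0 v = 1 → f.B r v ≠ 0 → A v := by
    intro v hvq hv0 hvr
    by_cases hd : f.B r w = f.B r v
    · obtain ⟨x, hxq, hx0, hxr⟩ := iso_pair (a := 1) h0.ne_zero h0.iso hr h1 h2 h3 one_ne (-1 : ZMod 3)
      have hxr' : f.B r x ≠ 0 := by rw [hxr]; decide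
      have hwr'' : f.B r w ≠ 0 := by rw [hwr]; exact one_ne
      have hne : f.B r w ≠ f.B r x := by rw [hwr, hxr]; exact ne_neg_one_one
      exact twoStep x v hxq hvq hx0 hv0 hxr' hvr (hd ▸ hne.symm)
        (twoStep w x hwq hxq hw0 hx0 hwr'' hxr' hne hAw)
    · exact twoStep w v hwq hvq hw0 hv0 (by rw [hwr]; exact one_ne) hvr hd hAw
  intro _ _ _ x v hx hv0 hvr hxc
  rcases trit (f.B r0 v) with e | e | e
  · exact absurd e hv0
  · exact any v hx.iso e (by rwa [f.symm r v]) x hx hxc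
  · have hvr' : f.B r v ≠ 0 := by rwa [f.symm r v]
    have := any (-v) (by rw [negl, negr, neg_neg, hx.iso]) (by rw [negr, e, neg_neg])
      (by rwa [negr, neg_ne_zero]) (d * x * d) (S.flip hx) ((S.co_flip h0 hx hv0).2 hxc)
    exact ((S.co_flip hy hx hvr').1 this.symm).symm

theorem good_unique {y y' : G} {r : V3 n} (h : Good D d f pt y0 r0 y r)
    (h' : Good D d f pt y0 r0 y' r) : y' = y := by
  by_cases h1 : r = r0
  · rw [h.base h1, h'.base h1]
  by_cases h2 : r = -r0
  · rw [h.base_neg h2, h'.base_neg h2]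
  by_cases h3 : f.B r0 r = 0
  · obtain ⟨w, hwq, hw0, hwr⟩ := iso_pair (a := 1) h0.ne_zero h0.iso h.sect.ne_zero h1 h2 h3 one_ne (1 : ZMod 3)
    obtain ⟨z, hz, hzc⟩ := S.exists_co h0 hwq (by rw [hw0]; exact one_ne)
    have hw0' : f.B r0 w ≠ 0 := by rw [hw0]; exact one_ne
    have hwr' : f.B w r ≠ 0 := by rw [f.symm w r, hwr]; exact one_ne
    exact S.co_unique hz h.sect h'.sect hwr' (h.far h3 h1 h2 z w hz hw0' hwr' hzc)
      (h'.far h3 h1 h2 z w hz hw0' hwr' hzc)
  · exact S.co_unique h0 h.sect h'.sect h3 (h.near h3) (h'.near h3)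

theorem good_flip {y : G} {r : V3 n} (h : Good D d f pt y0 r0 y r) :
    Good D d f pt y0 r0 (d * y * d) (-r) where
  sect := S.flip h.sect
  base e := by
    rw [h.base_neg (by rw [← e, neg_neg]), sandwich_twice S.dd]
  base_neg e := by rw [h.base (neg_injective e)]
  near hB := by
    have hB' : f.B r0 r ≠ 0 := by rwa [negr, neg_ne_zero] at hB
    exact (S.co_flip h0 h.sect hB').2 (h.near hB')
  far hB h1 h2 z w hz hw0 hwr hc := by
    rw [negr, neg_ne_zero] at hwr
    refine (S.co_flip hz h.sect hwr).2 (h.far (by rwa [negr, neg_eq_zero] at hB) (fun e => h2 ?_)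
      (fun e => h1 ?_) z w hz hw0 hwr hc)
    · rw [e]
    · rw [e, neg_neg]

theorem good_co {y y' : G} {r r' : V3 n} (h : Good D d f pt y0 r0 y r)
    (h' : Good D d f pt y0 r0 y' r') (hB : f.B r r' ≠ 0) : Co f y r y' r' := by
  have edge : ∀ {a b : G} {s t : V3 n}, Good D d f pt y0 r0 a s → Good D d f pt y0 r0 b t →
      f.B r0 s ≠ 0 → f.B s t ≠ 0 → Co f a s b t := by
    intro a b s t ha hb hs hst
    have hts : f.B t s ≠ 0 := by rwa [f.symm t s]
    by_cases h1 : t = r0
    · subst h1; rw [hb.base rfl]; exact (ha.near hs).symm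
    by_cases h2 : t = -r0
    · subst h2; rw [hb.base_neg rfl]
      exact (S.co_flip ha.sect h0 (by rwa [f.symm s r0])).2 (ha.near hs).symm
    by_cases h3 : f.B r0 t = 0
    · exact hb.far h3 h1 h2 a s ha.sect hs hst (ha.near hs)
    · exact S.tri h0 ha.sect hb.sect hs h3 hst (ha.near hs) (hb.near h3)
  by_cases hr : f.B r0 r = 0
  swap
  · exact edge h h' hr hB
  by_cases hr' : f.B r0 r' = 0
  swap
  · exact (edge h' h hr' (by rwa [f.symm r' r])).symm
  obtain ⟨w, hwq, hw0, hwr, hwr'⟩ :=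
    exists_triple h0.ne_zero h0.iso h.sect.iso h'.sect.iso hr hr' hB
  have hw : w ≠ 0 := fun e => one_ne (by rw [← hw0, e, zeror])
  obtain ⟨z, hz⟩ := S.good_exists h0 hw hwq
  have hw0' : f.B r0 w ≠ 0 := by rw [hw0]; exact one_ne
  have e1 : f.B w r ≠ 0 := by rw [f.symm w r, hwr]; exact one_ne
  have e2 : f.B w r' ≠ 0 := by rw [f.symm w r', hwr']; exact one_ne
  exact S.tri hz.sect h.sect h'.sect e1 e2 hB (edge hz h hw0' e1) (edge hz h' hw0' e2)

end Sys

/-- The member chosen over an isotropic vector. -/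
noncomputable def lift (D : Set G) (d : G) (f : Form3 n) (pt : V3 n → G) (y0 : G) (r0 r : V3 n) :
    G := by
  classical
  exact if h : ∃ y, Good D d f pt y0 r0 y r then h.choose else d

namespace Sys

variable (S : Sys D d f pt) {y0 : G} {r0 : V3 n} (h0 : Sect D d f pt y0 r0)
include S h0

local notation "Y" => lift D d f pt y0 r0

theorem lift_good {r : V3 n} (hr : r ≠ 0) (hq : f.B r r = 0) :
    Good D d f pt y0 r0 (Y r) r := by
  have h := S.good_exists h0 hr hq
  rw [lift, dif_pos h]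
  exact h.choose_spec

theorem lift_neg {r : V3 n} (hr : r ≠ 0) (hq : f.B r r = 0) : Y (-r) = d * Y r * d :=
  S.good_unique h0 (S.good_flip h0 (S.lift_good h0 hr hq))
    (S.lift_good h0 (neg_ne_zero.2 hr) (by rw [negl, negr, neg_neg, hq]))

theorem lift_inj {r r' : V3 n} (hr : r ≠ 0) (hq : f.B r r = 0) (hr' : r' ≠ 0)
    (hq' : f.B r' r' = 0) (h : Y r = Y r') : r = r' := by
  have g := S.lift_good h0 hr hq
  have g' := S.lift_good h0 hr' hq'
  rcases S.sect_unique g.sect (h ▸ g'.sect) with e | e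
  · exact e.symm
  · exfalso
    subst e
    rw [S.lift_neg h0 hr hq] at h
    refine g.sect.far ?_
    show d * Y r = Y r * d
    calc d * Y r = d * Y r * (d * d) := by rw [S.dd, mul_one]
      _ = d * Y r * d * d := by group
      _ = Y r * d := by rw [← h]

theorem lift_surj {a : G} (ha : a ∈ D) (hda : ¬ Commute d a) :
    ∃ r, r ≠ 0 ∧ f.B r r = 0 ∧ Y r = a := by
  obtain ⟨r, hr⟩ := S.exists_sect ha hda
  rcases S.common_eq (S.lift_good h0 hr.ne_zero hr.iso).sect hr with e | e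
  · exact ⟨r, hr.ne_zero, hr.iso, e.symm⟩
  · exact ⟨-r, neg_ne_zero.2 hr.ne_zero, by rw [negl, negr, neg_neg, hr.iso],
      (S.lift_neg h0 hr.ne_zero hr.iso).trans e.symm⟩

theorem lift_comm {r r' : V3 n} (hr : r ≠ 0) (hq : f.B r r = 0) (hr' : r' ≠ 0)
    (hq' : f.B r' r' = 0) (hne : r ≠ r') : Commute (Y r) (Y r') ↔ f.B r r' = -1 := by
  have g := S.lift_good h0 hr hq
  have g' := S.lift_good h0 hr' hq'
  by_cases hB : f.B r r' = 0
  · refine iff_of_false (fun hc => S.commute_ne_zero g.sect g'.sect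
      (fun e => hne (S.lift_inj h0 hr hq hr' hq' e.symm)) hc hB) (by rw [hB]; decide)
  · exact S.good_co h0 g g' hB

/-- Points act on the chosen members by reflection. -/
theorem lift_conj {r v : V3 n} (hr : r ≠ 0) (hq : f.B r r = 0) (hv : f.Pt v) :
    pt v * Y r * pt v = Y (f.ref v r) := by
  have g := S.lift_good h0 hr hq
  by_cases hB : f.B r v = 0
  · rw [ref_fix hB, sandwich_fix (S.sq (S.pt_mem hv)) ((g.sect.comm v hv).2 hB)]
  have hs := S.conj_sect g.sect hv
  have hkey : f.B r (-f.ref v r) = -1 := by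
    rw [negr, Form3.ref, addr, hq, zero_add, smulr, sq_one hB]
  have hne : f.B r (-f.ref v r) ≠ 0 := by rw [hkey]; decide
  have hn := neg_ne_zero.2 hs.ne_zero
  have hnq : f.B (-f.ref v r) (-f.ref v r) = 0 := by rw [negl, negr, neg_neg, hs.iso]
  have e := S.co_unique g.sect (S.lift_good h0 hn hnq).sect (S.flip hs) hne
    (S.good_co h0 g (S.lift_good h0 hn hnq) hne)
    (iff_of_true (S.phi_commute (S.pt_mem hv) g.sect.mem g.sect.far
      (fun hc => hB ((g.sect.comm v hv).1 hc)) (S.pt_comm hv)) hkey)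
  rw [← neg_neg (f.ref v r), S.lift_neg h0 hn hnq, ← e, sandwich_twice S.dd]

theorem lift_sandwich_neg {r : V3 n} (hr : r ≠ 0) (hq : f.B r r = 0) :
    Y r * Y (-r) * Y r = d := by
  have g := S.lift_good h0 hr hq
  rw [S.lift_neg h0 hr hq, braid S.tt S.mem g.sect.mem g.sect.far,
    sandwich_twice (S.sq g.sect.mem)]

theorem lift_sandwich_one {r r' : V3 n} (hr : r ≠ 0) (hq : f.B r r = 0)
    (hq' : f.B r' r' = 0) (hB : f.B r r' = 1) :
    f.Pt (r' - r) ∧ Y r * Y r' * Y r = pt (r' - r) := by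
  have hv : f.Pt (r' - r) := by
    show f.B (r' - r) (r' - r) = 1
    rw [subl, subr, subr, hq, hq', f.symm r' r, hB]
    decide
  refine ⟨hv, ?_⟩
  have g := S.lift_good h0 hr hq
  have hrv : f.B r (r' - r) = 1 := by rw [subr, hq, hB, sub_zero]
  have e := S.lift_conj h0 hr hq hv
  rw [Form3.ref, hrv, one_smul, add_sub_cancel] at e
  rw [← e, braid S.tt (S.pt_mem hv) g.sect.mem
    (fun hc => one_ne (hrv ▸ (g.sect.comm _ hv).1 hc)), sandwich_twice (S.sq g.sect.mem)]

theorem lift_sandwich_zero {r r' : V3 n} (hr : r ≠ 0) (hq : f.B r r = 0) (hr' : r' ≠ 0)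
    (hq' : f.B r' r' = 0) (hne : r' ≠ r) (hne' : r' ≠ -r) (hB : f.B r r' = 0) :
    Y r * Y r' * Y r = Y (-(r + r')) := by
  have g := S.lift_good h0 hr hq
  have g' := S.lift_good h0 hr' hq'
  have hy2 := S.sq g.sect.mem
  set x := Y r * Y r' * Y r with hx
  have hxD : x ∈ D := sandwich_mem S.tt S.conj g.sect.mem g'.sect.mem
  have hs : r + r' ≠ 0 := fun e => hne' (eq_neg_of_add_eq_zero_right e)
  have hsq : f.B (r + r') (r + r') = 0 := by
    rw [addl, addr, addr, hq, hq', f.symm r' r, hB]; ring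
  have hfar : ¬ Commute d x := by
    rw [hx, ← sandwich_left hy2, ← braid S.tt S.mem g.sect.mem g.sect.far,
      ← S.lift_neg h0 hr hq, S.lift_comm h0 (neg_ne_zero.2 hr) (by rw [negl, negr, neg_neg, hq])
        hr' hq' hne'.symm, negl, hB]
    decide
  have hsect : Sect D d f pt x (r + r') := by
    refine ⟨hxD, hfar, hs, hsq, fun v hv => ?_⟩
    rw [hx, ← sandwich_left hy2, addl]
    by_cases hrv : f.B r v = 0
    · rw [sandwich_fix hy2 ((g.sect.comm v hv).2 hrv).symm, g'.sect.comm v hv, hrv, zero_add]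
    · rw [← braid S.tt (S.pt_mem hv) g.sect.mem (fun hc => hrv ((g.sect.comm v hv).1 hc)),
        S.lift_conj h0 hr hq hv,
        S.lift_comm h0 (ref_iso_ne hr hq) (by rw [ref_norm hv, hq]) hr' hq' ?_,
        Form3.ref, addl, smull, hB, zero_add, f.symm v r']
      · revert hrv
        generalize f.B r v = a
        generalize f.B r' v = b
        revert a b; decide
      · intro e
        rw [← e, Form3.ref, addr, hq, zero_add, smulr, sq_one hrv] at hB
        exact one_ne hB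
  obtain ⟨s, hs0, hs1, hse⟩ := S.lift_surj h0 hxD hfar
  rcases S.sect_unique hsect (hse ▸ (S.lift_good h0 hs0 hs1).sect) with e | e
  · exfalso
    obtain ⟨t, htq, ht, ht'⟩ := iso_pair (a := -1) hr hq hr' hne hne' hB (by decide) (-1 : ZMod 3)
    have ht0 : t ≠ 0 := fun e' => by rw [e', zeror] at ht; revert ht; decide
    have hrt : r ≠ t := fun e' => by rw [← e', hq] at ht; revert ht; decide
    have hr't : r' ≠ t := fun e' => by rw [← e', hB] at ht; revert ht; decide
    have hst : s ≠ t := fun e' => by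
      rw [← e', e, addr, hq, hB] at ht
      revert ht; decide
    have hyes : Commute x (Y t) := by
      rw [hx, sandwich_left hy2, sandwich_fix hy2 ((S.lift_comm h0 hr hq ht0 htq hrt).2 ht)]
      exact (S.lift_comm h0 hr' hq' ht0 htq hr't).2 ht'
    rw [← hse, S.lift_comm h0 hs0 hs1 ht0 htq hst, e, addl, ht, ht'] at hyes
    revert hyes; decide
  · rw [← hse, e]

end Sys

end H68.Refl
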