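/-
Coordinates for the whole class from coordinates at one transposition.
-/
import Cfsg.Agent.H68.Refl.Signs

set_option autoImplicit false
set_option linter.unusedSectionVars false

namespace H68.Refl

open Cfsg H71.Fischer

universe u

variable {n : ℕ}

/-- The vector with first coordinate `a` and the others given by `v`. -/
abbrev vec (a : ZMod 3) (v : V3 n) : V3 (n + 1) := Fin.cons a v

/-- All coordinates but the first. -/
def tailL (n : ℕ) : V3 (n + 1) →ₗ[ZMod 3] V3 n := LinearMap.funLeft (ZMod 3) (ZMod 3) Fin.succ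

/-- The first coordinate. -/
def headL (n : ℕ) : V3 (n + 1) →ₗ[ZMod 3] ZMod 3 := LinearMap.proj 0

theorem vec_surj (x : V3 (n + 1)) : ∃ a v, x = vec a v :=
  ⟨x 0, Fin.tail x, (Fin.cons_self_tail x).symm⟩

theorem vec_neg (a : ZMod 3) (v : V3 n) : -vec a v = vec (-a) (-v) := by
  funext i; refine Fin.cases ?_ (fun j => ?_) i <;> simp [vec]

theorem vec_add_smul (a b c : ZMod 3) (v w : V3 n) :
    vec a v + c • vec b w = vec (a + c * b) (v + c • w) := by
  funext i; refine Fin.cases ?_ (fun j => ?_) i <;> simp [vec]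

theorem vec_eq_iff {a b : ZMod 3} {v w : V3 n} : vec a v = vec b w ↔ a = b ∧ v = w :=
  ⟨fun h => ⟨by simpa [vec] using congrFun h 0, funext fun j => by
    simpa [vec] using congrFun h j.succ⟩, fun h => by rw [h.1, h.2]⟩

/-- One more coordinate of norm one. -/
def ext (f : Form3 n) : Form3 (n + 1) where
  B := f.B.compl₁₂ (tailL n) (tailL n) +
    (LinearMap.mul (ZMod 3) (ZMod 3)).compl₁₂ (headL n) (headL n)
  symm x y := by
    simp only [LinearMap.add_apply, LinearMap.compl₁₂_apply, LinearMap.mul_apply']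
    rw [f.symm, mul_comm]
  nondeg x hx := by
    obtain ⟨a, v, rfl⟩ := vec_surj x
    have h : ∀ b w, f.B v w + a * b = 0 := fun b w => by
      simpa [tailL, headL, vec, LinearMap.funLeft, Function.comp_def] using hx (vec b w)
    have ha : a = 0 := by simpa [zeror] using h 1 0
    have hv : v = 0 := f.nondeg v fun w => by simpa using h 0 w
    rw [ha, hv]
    funext i; refine Fin.cases ?_ (fun j => ?_) i <;> simp [vec]

theorem ext_apply (f : Form3 n) (a b : ZMod 3) (v w : V3 n) :
    (ext f).B (vec a v) (vec b w) = f.B v w + a * b := by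
  simp [ext, tailL, headL, vec, LinearMap.funLeft, Function.comp_def]

theorem ext_ref (f : Form3 n) (a b : ZMod 3) (v w : V3 n) :
    (ext f).ref (vec b w) (vec a v) =
      vec (a + (f.B v w + a * b) * b) (v + (f.B v w + a * b) • w) := by
  rw [Form3.ref, ext_apply, vec_add_smul]

variable {G : Type u} [Group G] [Finite G] {D : Set G} {d : G} {f : Form3 n} {pt : V3 n → G}

/-- The member with given coordinates. -/
noncomputable def glob (D : Set G) (d : G) (f : Form3 n) (pt : V3 n → G) (y0 : G) (r0 : V3 n)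
    (x : V3 (n + 1)) : G :=
  if x 0 = 0 then pt (Fin.tail x)
  else if Fin.tail x = 0 then d else lift D d f pt y0 r0 (x 0 • Fin.tail x)

/-- The three kinds of points, each up to sign. -/
def Kind (f : Form3 n) (x : V3 (n + 1)) : Prop :=
  (∃ v, f.Pt v ∧ x = vec 0 v) ∨ x = vec 1 0 ∨ ∃ r, r ≠ 0 ∧ f.B r r = 0 ∧ x = vec 1 r

theorem kinds {x : V3 (n + 1)} (hx : (ext f).Pt x) : ∃ x', Kind f x' ∧ (x = x' ∨ x = -x') := by
  obtain ⟨a, v, rfl⟩ := vec_surj x
  rw [Form3.Pt, ext_apply] at hx
  rcases trit a with rfl | rfl | rfl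
  · exact ⟨_, Or.inl ⟨v, by simpa [Form3.Pt] using hx, rfl⟩, Or.inl rfl⟩
  · by_cases hv : v = 0
    · exact ⟨_, Or.inr (Or.inl rfl), Or.inl (by rw [hv])⟩
    · exact ⟨_, Or.inr (Or.inr ⟨v, hv, by linear_combination hx, rfl⟩), Or.inl rfl⟩
  · by_cases hv : v = 0
    · exact ⟨_, Or.inr (Or.inl rfl), Or.inr (by rw [vec_neg, hv, neg_zero])⟩
    · exact ⟨_, Or.inr (Or.inr ⟨-v, neg_ne_zero.2 hv, by rw [negl, negr]; linear_combination hx,
        rfl⟩), Or.inr (by rw [vec_neg, neg_neg])⟩

theorem kind_pt {x : V3 (n + 1)} (hx : Kind f x) : (ext f).Pt x := by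
  rcases hx with ⟨v, hv, rfl⟩ | rfl | ⟨r, -, hq, rfl⟩ <;> rw [Form3.Pt, ext_apply]
  · rw [mul_zero, add_zero]; exact hv
  · rw [zerol, zero_add, one_mul]
  · rw [hq, zero_add, one_mul]

namespace Sys

variable (S : Sys D d f pt) {y0 : G} {r0 : V3 n} (h0 : Sect D d f pt y0 r0)
include S h0

local notation "P" => glob D d f pt y0 r0
local notation "Y" => lift D d f pt y0 r0

omit S h0 in
theorem glob_zero (v : V3 n) : P (vec 0 v) = pt v := by simp [glob, vec]

omit S h0 in
theorem glob_apex {a : ZMod 3} (ha : a ≠ 0) : P (vec a 0) = d := by simp [glob, vec, ha]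

omit S h0 in
theorem glob_far {a : ZMod 3} (ha : a ≠ 0) {v : V3 n} (hv : v ≠ 0) :
    P (vec a v) = Y (a • v) := by simp [glob, vec, ha, hv]

omit S h0 in
theorem glob_one {r : V3 n} (hr : r ≠ 0) : P (vec 1 r) = Y r := by
  rw [glob_far one_ne hr, one_smul]

theorem glob_neg {x : V3 (n + 1)} (hx : (ext f).Pt x) : P (-x) = P x := by
  obtain ⟨a, v, rfl⟩ := vec_surj x
  rw [vec_neg]
  by_cases ha : a = 0
  · subst ha
    rw [neg_zero, glob_zero, glob_zero,
      S.pt_neg_eq (by simpa [Form3.Pt, ext_apply] using hx)]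
  · by_cases hv : v = 0
    · subst hv; rw [neg_zero, glob_apex ha, glob_apex (neg_ne_zero.2 ha)]
    · rw [glob_far ha hv, glob_far (neg_ne_zero.2 ha) (neg_ne_zero.2 hv), neg_smul_neg]

theorem glob_mem {x : V3 (n + 1)} (hx : Kind f x) : P x ∈ D := by
  rcases hx with ⟨v, hv, rfl⟩ | rfl | ⟨r, hr, hq, rfl⟩
  · rw [glob_zero]; exact S.pt_mem hv
  · rw [glob_apex one_ne]; exact S.mem
  · rw [glob_one hr]; exact (S.lift_good h0 hr hq).sect.mem

theorem glob_inj {x y : V3 (n + 1)} (hx : Kind f x) (hy : Kind f y) (h : P x = P y) :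
    x = y ∨ x = -y := by
  rcases hx with ⟨v, hv, rfl⟩ | rfl | ⟨r, hr, hq, rfl⟩ <;>
    rcases hy with ⟨w, hw, rfl⟩ | rfl | ⟨s, hs, hp, rfl⟩ <;>
    simp only [glob_zero, glob_apex one_ne, glob_one, *, ne_eq, not_false_eq_true] at h
  · rcases (S.chart.eq_iff v w hv hw).1 h with e | e
    · exact Or.inl (by rw [e])
    · exact Or.inr (by rw [vec_neg, neg_zero, e])
  · exact absurd h (S.pt_ne hv)
  · exact absurd (S.pt_comm hv) (h ▸ (S.lift_good h0 hs hp).sect.far)
  · exact absurd h.symm (S.pt_ne hw)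
  · exact Or.inl rfl
  · exact absurd (Commute.refl d) (by have := (S.lift_good h0 hs hp).sect.far; rwa [← h] at this)
  · exact absurd (S.pt_comm hw) (h ▸ (S.lift_good h0 hr hq).sect.far)
  · exact absurd (Commute.refl d) (by have := (S.lift_good h0 hr hq).sect.far; rwa [h] at this)
  · exact Or.inl (by rw [S.lift_inj h0 hr hq hs hp h])

theorem glob_comm {x y : V3 (n + 1)} (hx : Kind f x) (hy : Kind f y) (h1 : x ≠ y) (h2 : x ≠ -y) :
    Commute (P x) (P y) ↔ (ext f).B x y = 0 := by
  rcases hx with ⟨v, hv, rfl⟩ | rfl | ⟨r, hr, hq, rfl⟩ <;>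
    rcases hy with ⟨w, hw, rfl⟩ | rfl | ⟨s, hs, hp, rfl⟩ <;>
    simp only [glob_zero, glob_apex one_ne, glob_one, ext_apply, mul_zero, mul_one,
      add_zero, zero_add, zerol, zeror, *, ne_eq, not_false_eq_true]
  · refine S.chart.comm v w hv hw (fun e => h1 (by rw [e])) (fun e => h2 ?_)
    rw [vec_neg, neg_zero, e]
  · exact iff_of_true (S.pt_comm hv).symm trivial
  · rw [(S.lift_good h0 hs hp).sect.comm v hv, f.symm]
  · exact iff_of_true (S.pt_comm hw) trivial
  · exact absurd rfl h1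
  · exact iff_of_false (S.lift_good h0 hs hp).sect.far one_ne
  · rw [show Commute (Y r) (pt w) ↔ Commute (pt w) (Y r) from ⟨Commute.symm, Commute.symm⟩,
      (S.lift_good h0 hr hq).sect.comm w hw]
  · exact iff_of_false (fun h => (S.lift_good h0 hr hq).sect.far h.symm) one_ne
  · rw [S.lift_comm h0 hr hq hs hp (fun e => h1 (by rw [e]))]
    generalize f.B r s = b
    revert b; decide

theorem glob_conj {x y : V3 (n + 1)} (hx : Kind f x) (hy : Kind f y) :
    P y * P x * P y = P ((ext f).ref y x) := by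
  rcases hx with ⟨v, hv, rfl⟩ | rfl | ⟨r, hr, hq, rfl⟩ <;>
    rcases hy with ⟨w, hw, rfl⟩ | rfl | ⟨s, hs, hp, rfl⟩ <;>
    simp only [glob_zero, glob_apex one_ne, glob_one, ext_ref, mul_zero, mul_one,
      add_zero, zero_add, zerol, zeror, zero_smul, smul_zero, one_smul, *, ne_eq,
      not_false_eq_true]
  · exact S.chart.conj v w hv hw
  · exact sandwich_fix S.dd (S.pt_comm hv)
  · have g := S.lift_good h0 hs hp
    by_cases hB : f.B v s = 0
    · rw [hB, zero_smul, add_zero, glob_zero,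
        sandwich_fix (S.sq g.sect.mem) ((g.sect.comm v hv).2 (f.symm s v ▸ hB)).symm]
    · have hB' : f.B s v ≠ 0 := by rwa [f.symm s v]
      have hne : v + f.B v s • s ≠ 0 := fun e => by
        have := congrArg (f.B s) e
        rw [addr, smulr, hp, mul_zero, add_zero, zeror] at this
        exact hB' this
      rw [glob_far hB hne, ← braid S.tt (S.pt_mem hv) g.sect.mem
        (fun hc => hB' ((g.sect.comm v hv).1 hc)), S.lift_conj h0 hs hp hv, Form3.ref, smul_add,
        smul_smul, sq_one hB, one_smul, f.symm s v, add_comm]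
  · exact sandwich_fix (S.sq (S.pt_mem hw)) (S.pt_comm hw).symm
  · have e : (1 : ZMod 3) + 1 ≠ 0 := by decide
    rw [glob_apex e]
    exact sandwich_fix S.dd (Commute.refl d)
  · have g := S.lift_good h0 hs hp
    have e : (1 : ZMod 3) + 1 = -1 := by decide
    rw [← braid S.tt S.mem g.sect.mem g.sect.far, ← S.lift_neg h0 hs hp, e,
      glob_far (by decide) hs, neg_one_smul]
  · rw [S.lift_conj h0 hr hq hw, Form3.ref]
    refine (glob_one ?_).symm
    exact ref_iso_ne hr hq
  · have e : (1 : ZMod 3) + 1 = -1 := by decide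
    rw [← S.lift_neg h0 hr hq, e, glob_far (by decide) hr, neg_one_smul]
  · have g := S.lift_good h0 hs hp
    have g' := S.lift_good h0 hr hq
    by_cases h1 : r = s
    · subst h1
      rw [hq, zero_add, one_smul, sandwich_fix (S.sq g.sect.mem) (Commute.refl _),
        show r + r = -r by funext i; simp only [Pi.add_apply, Pi.neg_apply]; generalize r i = a; revert a; decide,
        show (1 : ZMod 3) + 1 = -1 by decide, glob_far (by decide) (neg_ne_zero.2 hr),
        neg_one_smul, neg_neg]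
    by_cases h2 : r = -s
    · subst h2
      rw [negl, hp, neg_zero, zero_add, one_smul, neg_add_cancel,
        glob_apex (by decide), S.lift_sandwich_neg h0 hs hp]
    rcases trit (f.B r s) with hB | hB | hB
    · have e : (1 : ZMod 3) + 1 = -1 := by decide
      have hne : r + s ≠ 0 := fun e' => h2 (eq_neg_of_add_eq_zero_left e')
      rw [hB, zero_add, one_smul, e, glob_far (by decide) hne, neg_one_smul,
        S.lift_sandwich_zero h0 hs hp hr hq h1 h2 (f.symm s r ▸ hB), add_comm]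
    · obtain ⟨-, he⟩ := S.lift_sandwich_one h0 hs hp hq (f.symm s r ▸ hB)
      rw [hB, show (1 : ZMod 3) + (1 + 1) = 0 by decide, glob_zero, he,
        show (1 : ZMod 3) + 1 = -1 by decide, neg_one_smul, sub_eq_add_neg]
    · rw [hB, show (-1 : ZMod 3) + 1 = 0 by decide, zero_smul, add_zero, add_zero, glob_one hr,
        sandwich_fix (S.sq g.sect.mem) ((S.lift_comm h0 hs hp hr hq (Ne.symm h1)).2
          (f.symm s r ▸ hB))]

theorem glob_chart : Chart D (ext f) P where
  mem x hx := by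
    obtain ⟨x', hk, rfl | rfl⟩ := kinds hx
    · exact S.glob_mem h0 hk
    · rw [S.glob_neg h0 (kind_pt hk)]; exact S.glob_mem h0 hk
  surj a ha := by
    by_cases had : a = d
    · exact ⟨vec 1 0, kind_pt (Or.inr (Or.inl rfl)), by rw [glob_apex one_ne, had]⟩
    by_cases hc : Commute d a
    · obtain ⟨v, hv, rfl⟩ := S.chart.surj a ⟨ha, had, hc⟩
      exact ⟨vec 0 v, kind_pt (Or.inl ⟨v, hv, rfl⟩), glob_zero v⟩
    · obtain ⟨r, hr, hq, rfl⟩ := S.lift_surj h0 ha hc
      exact ⟨vec 1 r, kind_pt (Or.inr (Or.inr ⟨r, hr, hq, rfl⟩)), glob_one hr⟩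
  eq_iff u v hu hv := by
    refine ⟨fun h => ?_, ?_⟩
    · obtain ⟨u', hu', rfl | rfl⟩ := kinds hu <;> obtain ⟨v', hv', rfl | rfl⟩ := kinds hv <;>
        (try simp only [S.glob_neg h0 (kind_pt hu'), S.glob_neg h0 (kind_pt hv')] at h) <;>
        rcases S.glob_inj h0 hu' hv' h with e | e <;> simp [e]
    · rintro (rfl | rfl)
      · rfl
      · exact S.glob_neg h0 hv
  comm u v hu hv h1 h2 := by
    obtain ⟨u', hu', rfl | rfl⟩ := kinds hu <;> obtain ⟨v', hv', rfl | rfl⟩ := kinds hv <;>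
      (try simp only [S.glob_neg h0 (kind_pt hu'), S.glob_neg h0 (kind_pt hv'), negl, negr,
        neg_eq_zero]) <;>
      refine S.glob_comm h0 hu' hv' (fun e => ?_) (fun e => ?_) <;> subst e <;>
      first
      | exact h1 rfl | exact h2 rfl | exact h1 (neg_neg _) | exact h2 (neg_neg _)
      | exact h1 (neg_neg _).symm | exact h2 (neg_neg _).symm
  conj u v hu hv := by
    have hpt : ∀ {a b}, (ext f).Pt a → (ext f).Pt b → (ext f).Pt ((ext f).ref b a) :=
      fun {a b} ha hb => (ref_norm hb a).trans ha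
    obtain ⟨u', hu', rfl | rfl⟩ := kinds hu <;> obtain ⟨v', hv', rfl | rfl⟩ := kinds hv
    · exact S.glob_conj h0 hu' hv'
    · rw [S.glob_neg h0 (kind_pt hv'), S.glob_conj h0 hu' hv']
      congr 1
      simp [Form3.ref, negr]
    · rw [S.glob_neg h0 (kind_pt hu'), S.glob_conj h0 hu' hv',
        ← S.glob_neg h0 (hpt (kind_pt hu') (kind_pt hv'))]
      congr 1
      simp [Form3.ref, add_comm]
    · rw [S.glob_neg h0 (kind_pt hu'), S.glob_neg h0 (kind_pt hv'), S.glob_conj h0 hu' hv',
        ← S.glob_neg h0 (hpt (kind_pt hu') (kind_pt hv'))]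
      congr 1
      simp [Form3.ref, negr, add_comm]

end Sys

theorem global : GlobalStmt.{u} := by
  intro G _ _ D d n s hn f pt hc hl hf
  have S : Sys D d f pt := ⟨s.desc.tt, s.desc.conj, s.mem, hc, hn, hl, hf,
    fun y hy => H99.ncard_perp_eq s.cls hy s.mem,
    H99.class_exists_not_commute s.cls s.prim.2.1 s.mem⟩
  obtain ⟨y0, hy0, hd0⟩ := S.far
  obtain ⟨r0, h0⟩ := S.exists_sect hy0 hd0
  exact ⟨ext f, _, S.glob_chart h0⟩

end H68.Refl
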